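import Groth.Agent.DefCurve29.PLift
import Groth.Agent.DefGlueLib.LiftAffine
import Groth.Agent.DefTan29.Surj
import Groth.Agent.Synt29.FlatLCI
import Groth.Agent.Synt29.Mor
import Groth.Agent.NQF.OpenAffine

/-!
Lifts over affine opens of a local complete intersection, and their uniqueness on smooth affine opens.
-/

universe u

open CategoryTheory CategoryTheory.Limits AlgebraicGeometry TopologicalSpace Opposite ArtFun

set_option backward.isDefEq.respectTransparency false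
set_option backward.isDefEq.respectTransparency.types false

noncomputable section

namespace Groth.Agent.DefCurve29

open Groth.Agent.DefGlueLib

/-- Opens of one-dimensional Noetherian affine opens are affine. -/
theorem isAffineOpen_of_le {X : Scheme.{u}} [IsLocallyNoetherian X] (hdim : topologicalKrullDim X ≤ 1)
    {V O : X.Opens} (hV : IsAffineOpen V) (hOV : O ≤ V) : IsAffineOpen O := by
  haveI : IsNoetherianRing Γ(X, V) := IsLocallyNoetherian.component_noetherian ⟨V, hV⟩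
  haveI : Ring.KrullDimLE 1 Γ(X, V) := by
    rw [Ring.krullDimLE_iff, ← PrimeSpectrum.topologicalKrullDim_eq_ringKrullDim]
    exact hV.fromSpec.isOpenEmbedding.isInducing.topologicalKrullDim_le.trans hdim
  haveI := NQF.isAffineHom_ι_spec (hV.fromSpec ⁻¹ᵁ O)
  have h1 : IsAffineOpen (hV.fromSpec ⁻¹ᵁ O) := isAffine_of_isAffineHom (hV.fromSpec ⁻¹ᵁ O).ι
  have h2 := h1.image_of_isOpenImmersion hV.fromSpec
  rwa [Scheme.Hom.image_preimage_eq_opensRange_inf, IsAffineOpen.opensRange_fromSpec,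
    inf_eq_right.2 hOV] at h2

variable {k : Type u} [Field k] {X : Scheme.{u}} {x : X ⟶ Art.specPt k}

/-- A presentation of a syntomic affine scheme. -/
theorem isSmoothFunctor_of_syntomic [IsAffine X] (h : Synt.IsSyntomicMor x) :
    ArtFun.IsSmoothFunctor (ArtFun.defFunctor (Λ := k) X x) := by
  have hP := Synt29.hasRingHomProperty_isSyntomicMor.{u}
  have h1 : Synt.IsSyntomicMor (X.isoSpec.inv ≫ x) :=
    (MorphismProperty.cancel_left_of_respectsIso
      (fun {X Y : Scheme.{u}} (f : X ⟶ Y) => Synt.IsSyntomicMor f : MorphismProperty Scheme.{u}) _ _).2 h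
  rw [show X.isoSpec.inv ≫ x = Spec.map (CommRingCat.ofHom (str x (topAZ X))) by
    rw [Iso.inv_comp_eq, isoSpec_SpecMap_str]] at h1
  letI : Algebra k Γ(X, ⊤) := (str x (topAZ X)).toAlgebra
  have h2 : Synt.IsSyntomic k Γ(X, ⊤) := (Synt29.isSyntomic_iff_isSyntomicMor (R := k) (S := Γ(X, ⊤))).1 h1
  obtain ⟨-, n, φ, hφ, hK⟩ := Synt29.isLCI_of_isSyntomic h2
  obtain ⟨r, f, hf⟩ := Submodule.fg_iff_exists_fin_generating_family.1
    (IsNoetherian.noetherian (RingHom.ker φ.toRingHom))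
  letI : Algebra (MvPolynomial (Fin n) k) Γ(X, ⊤) := φ.toRingHom.toAlgebra
  refine isSmoothFunctor_defFunctor_affine (n := n) (r := r) x (RingHom.ext fun c => ?_) hφ f hf.symm ?_
  · exact (φ.commutes c).symm
  · rw [show Ideal.span (Set.range f) = RingHom.ker φ.toRingHom from hf]
    exact hK

variable {C C' : Art k k} {p : C' ⟶ C} {ξ₀ : DefSch X x C}

theorem isSyntomicMor_comp_ι (h : Synt.IsSyntomicMor x) (V : X.Opens) : Synt.IsSyntomicMor (V.ι ≫ x) := by
  have := Synt29.hasRingHomProperty_isSyntomicMor.{u}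
  exact IsZariskiLocalAtSource.comp
    (P := (fun {X Y : Scheme.{u}} (f : X ⟶ Y) => Synt.IsSyntomicMor f : MorphismProperty Scheme.{u})) h V.ι

/-- A deformation lifts over every affine open. -/
theorem nonempty_plift (hp : Function.Surjective p) (h : Synt.IsSyntomicMor x) {V : X.Opens}
    (hV : IsAffineOpen V) : Nonempty (PLift p ξ₀ V) := by
  haveI : IsAffine (V : Scheme.{u}) := hV
  obtain ⟨y, hy⟩ := isSmoothFunctor_of_syntomic (isSyntomicMor_comp_ι h V) p hp (resD ξ₀ V).cl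
  obtain ⟨η, rfl⟩ := cl_surjective y
  obtain ⟨e⟩ := cl_eq_iff.1 (show (η.baseChange p).cl = (resD ξ₀ V).cl from hy)
  let Φ : Ov p η (resD ξ₀ V) := Ov.isoComp e.symm (Ov.proj η p)
  refine ⟨{ Y := η.total, f := η.f, flat := η.flat, h := Φ.hom, sq := ?_ }⟩
  exact IsPullback.of_iso_pullback ⟨Φ.w⟩ Φ.toBC.iso Φ.toBC_fst Φ.toBC.hom_f

/-- Two lifts over a smooth affine open are isomorphic. -/
theorem exists_iso {O : X.Opens} (hO : IsAffineOpen O) (hsm : Smooth (O.ι ≫ x))
    (hp : Function.Surjective p) (P Q : PLift p ξ₀ O) :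
    ∃ e : P.Y ≅ Q.Y, P.h ≫ e.hom = Q.h ∧ e.hom ≫ Q.f = P.f := by
  haveI : IsAffine (O : Scheme.{u}) := hO
  letI inst : (O : Scheme.{u}).Over (Spec (CommRingCat.of k)) := ⟨O.ι ≫ x⟩
  haveI : Smooth (DefTan29.xk k (O : Scheme.{u})) := hsm
  haveI : QuasiSeparated (DefTan29.xk k (O : Scheme.{u})) := inferInstance
  obtain ⟨L⟩ := DefTan29.nonempty_loc (k := k) (X := (O : Scheme.{u})) (p := p) P.ov.sec Q.ov.sec hp
  let U := topAZ (O : Scheme.{u})
  have hTP : IsAffineOpen (imOpen P.toDef U.toOpens) := isAffineOpen_imOpen P.toDef U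
  have hTQ : IsAffineOpen (imOpen Q.toDef U.toOpens) := isAffineOpen_imOpen Q.toDef U
  have hT0 : IsAffineOpen (imOpen (resD ξ₀ O) U.toOpens) := isAffineOpen_imOpen (resD ξ₀ O) U
  have htop : ∀ {B : Art k k} (ξ : DefSch (O : Scheme.{u}) (O.ι ≫ x) B) (hT : IsAffineOpen (imOpen ξ U.toOpens)),
      IsIso hT.fromSpec := fun ξ hT => by
    refine (isIso_iff_isOpenImmersion_and_surjective _).2 ⟨inferInstance, ⟨fun z => ?_⟩⟩
    have hz : z ∈ imOpen ξ U.toOpens := by
      obtain ⟨w, rfl⟩ := ξ.i.surjective z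
      exact ⟨w, trivial, rfl⟩
    exact hT.range_fromSpec.ge hz
  haveI := htop P.toDef hTP
  haveI := htop Q.toDef hTQ
  haveI := htop (resD ξ₀ O) hT0
  let ψ : Γ(P.toDef.total, imOpen P.toDef U.toOpens) ⟶ Γ(Q.toDef.total, imOpen Q.toDef U.toOpens) :=
    CommRingCat.ofHom (L.ψ U)
  let b : Spec Γ(Q.toDef.total, imOpen Q.toDef U.toOpens) ⟶ Q.Y := hTQ.fromSpec
  haveI : IsIso b := htop Q.toDef hTQ
  let m : Q.Y ⟶ P.Y := inv b ≫ Spec.map ψ ≫ hTP.fromSpec
  have hm₁ : m ≫ P.f = Q.f := by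
    rw [Category.assoc, IsIso.inv_comp_eq, Category.assoc]
    refine (congrArg (Spec.map ψ ≫ ·) (SpecMap_secA P.toDef hTP).symm).trans ?_
    refine (Spec.map_comp _ _).symm.trans (Eq.trans ?_ (SpecMap_secA Q.toDef hTQ))
    exact congrArg Spec.map (CommRingCat.hom_ext (RingHom.ext fun c => L.ψ_a U c))
  have le : ∀ R : PLift p ξ₀ O,
      imOpen (resD ξ₀ O) U.toOpens ≤ R.h ⁻¹ᵁ imOpen R.toDef U.toOpens := fun R => by
    rintro _ ⟨w, hw, rfl⟩
    exact ⟨w, hw, rfl⟩
  have hm₂ : Q.h ≫ m = P.h := by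
    refine (cancel_epi hT0.fromSpec).1 ?_
    have e₁ : Spec.map (Q.h.appLE _ _ (le Q)) ≫ b = hT0.fromSpec ≫ Q.h :=
      IsAffineOpen.SpecMap_appLE_fromSpec Q.h hTQ hT0 (le Q)
    have e₂ : Spec.map (P.h.appLE _ _ (le P)) ≫ hTP.fromSpec = hT0.fromSpec ≫ P.h :=
      IsAffineOpen.SpecMap_appLE_fromSpec P.h hTP hT0 (le P)
    rw [← e₂, ← Category.assoc, ← e₁, Category.assoc, IsIso.hom_inv_id_assoc, ← Category.assoc]
    refine congrArg (· ≫ hTP.fromSpec) ((Spec.map_comp _ _).symm.trans (congrArg Spec.map ?_))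
    exact CommRingCat.hom_ext (RingHom.ext fun z => L.ψ_π U z)
  have : IsIso m := isIso_of_hom (ξ := Q.toDef) (ξ' := P.toDef) m hm₁
    ((Category.assoc _ _ _).trans (congrArg (iW ξ₀ O ≫ ·) hm₂))
  refine ⟨(asIso m).symm, ?_, ?_⟩
  · rw [Iso.symm_hom, asIso_inv, IsIso.comp_inv_eq]
    exact hm₂.symm
  · rw [Iso.symm_hom, asIso_inv, IsIso.inv_comp_eq]
    exact hm₁.symm

end Groth.Agent.DefCurve29
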