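import Groth.Agent.DefCurve29.Affine
import Groth.Agent.Lib.SupportVanish

/-!
Deformations of generically smooth local complete intersection curves lift.
-/

universe u

open CategoryTheory CategoryTheory.Limits AlgebraicGeometry TopologicalSpace Opposite ArtFun

set_option backward.isDefEq.respectTransparency false
set_option backward.isDefEq.respectTransparency.types false

noncomputable section

namespace Groth.Agent.DefCurve29

open Groth.Agent.DefGlueLib

/-- The complement of a dense open of a Noetherian sober space of dimension at most one is a finite set of closed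
points. -/
theorem finite_compl {T : Type u} [TopologicalSpace T] [NoetherianSpace T] [QuasiSober T] [T0Space T]
    (hdim : topologicalKrullDim T ≤ 1) {U : Set T} (hU : IsOpen U) (hd : Dense U) :
    Uᶜ.Finite ∧ ∀ y ∈ Uᶜ, IsClosed ({y} : Set T) := by
  obtain ⟨S, hS, -, hgen⟩ := SupportVanish.exists_finite_generalizing (isClosed_univ (X := T))
  have hdim' : topologicalKrullDim (Set.univ : Set T) ≤ 1 :=
    (Topology.IsInducing.subtypeVal.topologicalKrullDim_le).trans hdim
  have hη : ∀ y : T, ∃ η ∈ S ∩ U, η ⤳ y := fun y => by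
    have hsub : U ⊆ ⋃ η ∈ S ∩ U, closure {η} := fun z hz => by
      obtain ⟨η, hη, hsp⟩ := hgen z trivial
      exact Set.mem_biUnion (x := η) ⟨hη, hsp.mem_open hU hz⟩ hsp.mem_closure
    have hc : IsClosed (⋃ η ∈ S ∩ U, closure ({η} : Set T)) :=
      (hS.subset Set.inter_subset_left).isClosed_biUnion fun _ _ => isClosed_closure
    have hy : y ∈ ⋃ η ∈ S ∩ U, closure ({η} : Set T) := closure_minimal hsub hc (hd y)
    simp only [Set.mem_iUnion] at hy
    obtain ⟨η, hη, hy⟩ := hy
    exact ⟨η, hη, specializes_iff_mem_closure.2 hy⟩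
  refine ⟨?_, fun y hy => ?_⟩
  · have := SupportVanish.finite_diff isClosed_univ hdim' (Set.subset_univ (S ∩ U))
      (fun y _ => hη y) hU Set.inter_subset_right
    rwa [Set.compl_eq_univ_sdiff]
  · obtain ⟨η, hη, hsp⟩ := hη y
    refine closure_eq_iff_isClosed.1 (Set.Subset.antisymm (fun z hz => ?_) subset_closure)
    by_contra hne
    exact SupportVanish.no_chain hdim' (Set.mem_univ η) (Set.mem_univ y) (Set.mem_univ z) hsp
      (specializes_iff_mem_closure.2 hz) (fun h => hy (h ▸ hη.2)) (Ne.symm hne)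

variable {k : Type u} [Field k] {X : Scheme.{u}} {x : X ⟶ Art.specPt k} [LocallyOfFiniteType x] [QuasiCompact x]

variable {C C' : Art k k} {p : C' ⟶ C} (ξ₀ : DefSch X x C)

/-- Lifts over affine opens glue to a lift over the curve. -/
theorem nonempty_plift_top (hdim : topologicalKrullDim X ≤ 1) (h : Synt.IsSyntomicMor x) (U : X.Opens)
    (hd : Dense (U : Set X)) (hsm : Smooth (U.ι ≫ x)) (hp : Function.Surjective p) :
    Nonempty (PLift p ξ₀ (⊤ : X.Opens)) := by
  classical
  haveI : IsLocallyNoetherian X := LocallyOfFiniteType.isLocallyNoetherian x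
  haveI : CompactSpace X := (quasiCompact_iff_compactSpace x).1 ‹_›
  haveI : IsNoetherian X := {}
  obtain ⟨hfin, hcl⟩ := finite_compl hdim U.2 hd
  obtain ⟨s, hs⟩ := isCompact_univ.elim_finite_subcover (fun V : X.affineOpens => (V.1 : Set X))
    (fun V => V.1.2) (fun z _ => by
      obtain ⟨V, hV, hzV, -⟩ := exists_isAffineOpen_mem_and_subset (U := (⊤ : X.Opens)) (Set.mem_univ z)
      exact Set.mem_iUnion.2 ⟨⟨V, hV⟩, hzV⟩)
  suffices key : ∀ t : Finset X.affineOpens, Nonempty (PLift p ξ₀ (t.sup fun V => V.1)) by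
    have htop : (s.sup fun V => V.1) = ⊤ := top_unique fun z _ => by
      obtain ⟨V, hV, hz⟩ := Set.mem_iUnion₂.1 (hs (Set.mem_univ z))
      exact Finset.le_sup (f := fun V : X.affineOpens => V.1) hV hz
    exact htop ▸ key s
  intro t
  induction t using Finset.induction with
  | empty => exact nonempty_plift hp h (isAffineOpen_bot X)
  | insert V t hVt ih =>
    obtain ⟨P⟩ := ih
    rw [Finset.sup_insert]
    let W : X.Opens := t.sup fun V => V.1
    have hc : IsClosed ((U : Set X)ᶜ ∩ W) := by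
      rw [← Set.biUnion_of_singleton ((U : Set X)ᶜ ∩ W)]
      exact (hfin.subset Set.inter_subset_left).isClosed_biUnion fun y hy => hcl y hy.1
    let V' : X.Opens := V.1 ⊓ ⟨_, hc.isOpen_compl⟩
    have hV' : IsAffineOpen V' := isAffineOpen_of_le hdim V.2 inf_le_left
    have hsup : V.1 ⊔ W = W ⊔ V' := by
      refine TopologicalSpace.Opens.ext (Set.ext fun z => ⟨fun hz => ?_, fun hz => ?_⟩)
      · by_cases hzW : z ∈ W
        · exact Or.inl hzW
        · rcases hz with hz | hz
          · exact Or.inr ⟨hz, fun hh => hzW hh.2⟩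
          · exact (hzW hz).elim
      · rcases hz with hz | hz
        · exact Or.inr hz
        · exact Or.inl hz.1
    have hle : W ⊓ V' ≤ U := fun z hz => not_not.1 fun hzU => hz.2.2 ⟨hzU, hz.1⟩
    obtain ⟨Q⟩ := nonempty_plift (ξ₀ := ξ₀) hp h hV'
    have hsm' : Smooth ((W ⊓ V').ι ≫ x) := by
      rw [← X.homOfLE_ι hle, Category.assoc]
      haveI := hsm
      infer_instance
    obtain ⟨e, he, hef⟩ := exists_iso (isAffineOpen_of_le hdim V.2 (inf_le_right.trans inf_le_left)) hsm' hp
      (P.restr hp (inf_le_left : W ⊓ V' ≤ W)) (Q.restr hp (inf_le_right : W ⊓ V' ≤ V'))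
    show Nonempty (PLift p ξ₀ (V.1 ⊔ W))
    rw [hsup]
    exact nonempty_glue hp P Q e he hef

/-- Deformations of generically smooth local complete intersection curves lift. -/
theorem exists_lift (hdim : topologicalKrullDim X ≤ 1) (h : Synt.IsSyntomicMor x) (U : X.Opens)
    (hd : Dense (U : Set X)) (hsm : Smooth (U.ι ≫ x)) (hp : Function.Surjective p) :
    ∃ η : DefSch X x C', (η.baseChange p).cl = ξ₀.cl := by
  obtain ⟨P⟩ := nonempty_plift_top ξ₀ hdim h U hd hsm hp
  let η : DefSch X x C' :=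
    { total := P.Y
      f := P.f
      flat := P.flat
      i := (Scheme.topIso X).inv ≫ iW ξ₀ ⊤ ≫ P.h
      isPullback := P.toDef.isPullback.of_iso (Scheme.topIso X) (Iso.refl _) (Iso.refl _) (Iso.refl _)
        ((Category.comp_id _).trans ((Scheme.topIso X).hom_inv_id_assoc (iW ξ₀ ⊤ ≫ P.h)).symm)
        (Category.comp_id _) (by simp [PLift.toDef]) (by simp) }
  haveI : IsIso (imOpen ξ₀ (⊤ : X.Opens)).ι := by
    refine (isIso_iff_isOpenImmersion_and_surjective _).2 ⟨inferInstance, ⟨fun z => ?_⟩⟩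
    obtain ⟨w, rfl⟩ := ξ₀.i.surjective z
    exact ⟨⟨_, w, trivial, rfl⟩, rfl⟩
  have Φ : Ov p η ξ₀ :=
    { hom := inv (imOpen ξ₀ (⊤ : X.Opens)).ι ≫ P.h
      w := by
        rw [Category.assoc, IsIso.inv_comp_eq, P.sq.w, Category.assoc]
      i_hom := by
        show ξ₀.i ≫ inv (imOpen ξ₀ (⊤ : X.Opens)).ι ≫ P.h = (Scheme.topIso X).inv ≫ iW ξ₀ ⊤ ≫ P.h
        rw [← Category.assoc, ← Category.assoc]
        refine congrArg (· ≫ P.h) ?_
        rw [IsIso.comp_inv_eq, Category.assoc, iW_ι, ← Scheme.topIso_hom, Iso.inv_hom_id_assoc] }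
  exact ⟨η, cl_eq_iff.2 ⟨Φ.toBC.symm⟩⟩

end Groth.Agent.DefCurve29
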