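import Groth.Agent.DefGlueLib.Sections
import Groth.Agent.Approx.Model

/-!
Lifts of a deformation over open subsets of the closed fibre, and their gluing.
-/

universe u

open CategoryTheory CategoryTheory.Limits AlgebraicGeometry TopologicalSpace Opposite ArtFun

set_option backward.isDefEq.respectTransparency false
set_option backward.isDefEq.respectTransparency.types false

noncomputable section

namespace Groth.Agent.DefCurve29

open Groth.Agent.DefGlueLib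

variable {Λ k : Type u} [CommRing Λ] [Field k] [Algebra Λ k]
variable {X : Scheme.{u}} {x : X ⟶ Art.specPt k} {C C' : Art Λ k} (p : C' ⟶ C) (ξ₀ : DefSch X x C)

/-- A lift over an open of the closed fibre. -/
structure PLift (W : X.Opens) : Type (u + 1) where
  /-- the lifted scheme -/
  Y : Scheme.{u}
  /-- its structure map -/
  f : Y ⟶ Art.spec C'
  flat : Flat f
  /-- the reduction -/
  h : (imOpen ξ₀ W : Scheme.{u}) ⟶ Y
  sq : IsPullback h ((imOpen ξ₀ W).ι ≫ ξ₀.f) f (Art.specMap p)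

/-- The closed fibre of an open of the total space. -/
def iW (W : X.Opens) : (W : Scheme.{u}) ⟶ (imOpen ξ₀ W : Scheme.{u}) :=
  IsOpenImmersion.lift (imOpen ξ₀ W).ι (W.ι ≫ ξ₀.i) (by
    rintro _ ⟨w, rfl⟩
    rw [Scheme.Opens.range_ι]
    exact ⟨w.1, w.2, rfl⟩)

theorem iW_ι (W : X.Opens) : iW ξ₀ W ≫ (imOpen ξ₀ W).ι = W.ι ≫ ξ₀.i :=
  IsOpenImmersion.lift_fac _ _ _

theorem isPullback_iW (W : X.Opens) :
    IsPullback (iW ξ₀ W) (W.ι ≫ x) ((imOpen ξ₀ W).ι ≫ ξ₀.f) (Art.specRes C) := by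
  refine IsPullback.paste_vert (IsOpenImmersion.isPullback (iW ξ₀ W) W.ι (imOpen ξ₀ W).ι ξ₀.i (iW_ι ξ₀ W).symm ?_)
    ξ₀.isPullback
  rw [Scheme.Opens.opensRange_ι, Scheme.Opens.opensRange_ι, preimage_imOpen]

/-- The deformation of an open of the closed fibre. -/
def resD (W : X.Opens) : DefSch (W : Scheme.{u}) (W.ι ≫ x) C where
  total := imOpen ξ₀ W
  f := (imOpen ξ₀ W).ι ≫ ξ₀.f
  flat := MorphismProperty.comp_mem (W := @Flat) _ _ inferInstance ξ₀.flat
  i := iW ξ₀ W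
  isPullback := isPullback_iW ξ₀ W

variable {p ξ₀}

namespace PLift

variable {W : X.Opens} (P : PLift p ξ₀ W)

/-- The lift as a deformation of the open. -/
def toDef : DefSch (W : Scheme.{u}) (W.ι ≫ x) C' where
  total := P.Y
  f := P.f
  flat := P.flat
  i := iW ξ₀ W ≫ P.h
  isPullback := by
    have h := (isPullback_iW ξ₀ W).paste_horiz P.sq.flip.flip
    rwa [Art.specRes_comp] at h

/-- The lift maps to the deformation. -/
def ov : Ov p P.toDef (resD ξ₀ W) where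
  hom := P.h
  w := P.sq.w
  i_hom := rfl

theorem h_closedImmersion (hp : Function.Surjective p) : IsClosedImmersion P.h :=
  have : IsClosedImmersion (Art.specMap p) := IsClosedImmersion.spec_of_surjective _ hp
  MorphismProperty.of_isPullback (P := @IsClosedImmersion) P.sq.flip inferInstance

theorem h_surjective : Surjective P.h :=
  have : Surjective (Art.specMap p) :=
    ⟨fun q => ⟨(⊥ : PrimeSpectrum k) |> (Spec.map (CommRingCat.ofHom C.res.toRingHom)),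
      @Subsingleton.elim (PrimeSpectrum C') _ _ _⟩⟩
  MorphismProperty.of_isPullback (P := @Surjective) P.sq.flip inferInstance

theorem h_injective (hp : Function.Surjective p) : Function.Injective P.h :=
  (P.h_closedImmersion hp).base_closed.injective

/-- The open of the lift over a smaller open. -/
def opn (hp : Function.Surjective p) {W' : X.Opens} (h : W' ≤ W) : P.Y.Opens :=
  ⟨P.h '' ((imOpen ξ₀ W).ι ⁻¹ᵁ imOpen ξ₀ W' : Set (imOpen ξ₀ W : Scheme.{u})), by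
    haveI := P.h_closedImmersion hp
    haveI := P.h_surjective
    obtain ⟨O, hO, hOU⟩ := P.h.isClosedEmbedding.isInducing.isOpen_iff.mp
      ((imOpen ξ₀ W).ι ⁻¹ᵁ imOpen ξ₀ W').2
    change IsOpen (P.h '' ((imOpen ξ₀ W).ι ⁻¹ᵁ imOpen ξ₀ W').carrier)
    rw [← hOU, Set.image_preimage_eq O P.h.surjective]
    exact hO⟩

theorem preimage_opn (hp : Function.Surjective p) {W' : X.Opens} (h : W' ≤ W) :
    P.h ⁻¹ᵁ P.opn hp h = (imOpen ξ₀ W).ι ⁻¹ᵁ imOpen ξ₀ W' :=
  TopologicalSpace.Opens.ext (Set.preimage_image_eq _ (P.h_injective hp))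

/-- Restriction of a lift. -/
def restr (hp : Function.Surjective p) {W' : X.Opens} (h : W' ≤ W) : PLift p ξ₀ W' where
  Y := P.opn hp h
  f := (P.opn hp h).ι ≫ P.f
  flat := MorphismProperty.comp_mem (W := @Flat) _ _ inferInstance P.flat
  h := IsOpenImmersion.lift (P.opn hp h).ι (ξ₀.total.homOfLE (imOpen_mono ξ₀ h) ≫ P.h) (by
    rintro _ ⟨z, rfl⟩
    rw [Scheme.Opens.range_ι]
    refine ⟨ξ₀.total.homOfLE (imOpen_mono ξ₀ h) z, ?_, rfl⟩
    show (ξ₀.total.homOfLE (imOpen_mono ξ₀ h) z).1 ∈ imOpen ξ₀ W'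
    rw [Scheme.homOfLE_apply]
    exact z.2)
  sq := by
    rw [show (imOpen ξ₀ W').ι ≫ ξ₀.f = ξ₀.total.homOfLE (imOpen_mono ξ₀ h) ≫ (imOpen ξ₀ W).ι ≫ ξ₀.f by
      rw [Scheme.homOfLE_ι_assoc]]
    refine IsPullback.paste_vert (IsOpenImmersion.isPullback _ _ _ _ (IsOpenImmersion.lift_fac _ _ _).symm ?_) P.sq
    rw [Scheme.Opens.opensRange_ι, P.preimage_opn hp h, Scheme.opensRange_homOfLE]

theorem restr_h (hp : Function.Surjective p) {W' : X.Opens} (h : W' ≤ W) :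
    (P.restr hp h).h ≫ (P.opn hp h).ι = ξ₀.total.homOfLE (imOpen_mono ξ₀ h) ≫ P.h :=
  IsOpenImmersion.lift_fac _ _ _

end PLift

/-- Gluing two lifts along an identification over the intersection. -/
theorem nonempty_glue (hp : Function.Surjective p) {W₁ W₂ : X.Opens} (P : PLift p ξ₀ W₁) (Q : PLift p ξ₀ W₂)
    (e : (P.restr hp (inf_le_left : W₁ ⊓ W₂ ≤ W₁)).Y ≅ (Q.restr hp (inf_le_right : W₁ ⊓ W₂ ≤ W₂)).Y)
    (he : (P.restr hp inf_le_left).h ≫ e.hom = (Q.restr hp inf_le_right).h)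
    (hef : e.hom ≫ (Q.restr hp inf_le_right).f = (P.restr hp inf_le_left).f) :
    Nonempty (PLift p ξ₀ (W₁ ⊔ W₂)) := by
  let a : (P.opn hp (inf_le_left : W₁ ⊓ W₂ ≤ W₁) : Scheme.{u}) ⟶ P.Y := (P.opn hp inf_le_left).ι
  let b : (P.opn hp (inf_le_left : W₁ ⊓ W₂ ≤ W₁) : Scheme.{u}) ⟶ Q.Y :=
    e.hom ≫ (Q.opn hp (inf_le_right : W₁ ⊓ W₂ ≤ W₂)).ι
  haveI : IsOpenImmersion b := inferInstanceAs (IsOpenImmersion (e.hom ≫ _))
  haveI : IsOpenImmersion (pushout.inl a b) := Approx.isOpenImmersion_inl a b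
  haveI : IsOpenImmersion (pushout.inr a b) := Approx.isOpenImmersion_inr a b
  let Z₁ := imOpen ξ₀ W₁
  let Z₂ := imOpen ξ₀ W₂
  let Z := imOpen ξ₀ (W₁ ⊔ W₂)
  let j₁ : (Z₁ : Scheme.{u}) ⟶ Z := ξ₀.total.homOfLE (imOpen_mono ξ₀ le_sup_left)
  let j₂ : (Z₂ : Scheme.{u}) ⟶ Z := ξ₀.total.homOfLE (imOpen_mono ξ₀ le_sup_right)
  have hZ : ∀ z : (Z : Scheme.{u}), z.1 ∈ Z₁ ∨ z.1 ∈ Z₂ := fun z => by
    obtain ⟨w, hw, e'⟩ := z.2
    rcases hw with hw | hw
    · exact Or.inl ⟨w, hw, e'⟩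
    · exact Or.inr ⟨w, hw, e'⟩
  have hcov : j₁.opensRange ⊔ j₂.opensRange = ⊤ := top_unique fun z _ => by
    simp only [j₁, j₂, Scheme.opensRange_homOfLE]
    exact hZ z
  have hinf : ξ₀.i '' ((W₁ : Set X) ∩ W₂) = (Z₁ : Set ξ₀.total) ∩ Z₂ :=
    Set.image_inter ξ₀.i.isClosedEmbedding.injective
  have hw : a ≫ pushout.inl a b = b ≫ pushout.inr a b := pushout.condition
  obtain ⟨g, hg₁, hg₂⟩ := Approx.exists_glue2 j₁ j₂ hcov (P.h ≫ pushout.inl a b) (Q.h ≫ pushout.inr a b) (by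
    have hr : Set.range (pullback.fst j₁ j₂ ≫ Z₁.ι) ⊆ (imOpen ξ₀ (W₁ ⊓ W₂) : Set ξ₀.total) := by
      rintro _ ⟨z, rfl⟩
      show _ ∈ ξ₀.i '' ((W₁ : Set X) ∩ W₂)
      rw [hinf]
      refine ⟨(pullback.fst j₁ j₂ z).2, ?_⟩
      have h1 : pullback.fst j₁ j₂ ≫ Z₁.ι = pullback.snd j₁ j₂ ≫ Z₂.ι := by
        rw [← Scheme.homOfLE_ι ξ₀.total (imOpen_mono ξ₀ (le_sup_left : W₁ ≤ W₁ ⊔ W₂)), ← Category.assoc,
          pullback.condition, Category.assoc, Scheme.homOfLE_ι]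
      rw [h1]
      exact (pullback.snd j₁ j₂ z).2
    let l : pullback j₁ j₂ ⟶ (imOpen ξ₀ (W₁ ⊓ W₂) : Scheme.{u}) :=
      IsOpenImmersion.lift (imOpen ξ₀ (W₁ ⊓ W₂)).ι (pullback.fst j₁ j₂ ≫ Z₁.ι)
        (hr.trans (Scheme.Opens.range_ι _).ge)
    have hl₁ : l ≫ ξ₀.total.homOfLE (imOpen_mono ξ₀ inf_le_left) = pullback.fst j₁ j₂ := by
      rw [← cancel_mono Z₁.ι, Category.assoc, Scheme.homOfLE_ι]
      exact IsOpenImmersion.lift_fac _ _ _
    have hl₂ : l ≫ ξ₀.total.homOfLE (imOpen_mono ξ₀ inf_le_right) = pullback.snd j₁ j₂ := by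
      rw [← cancel_mono j₂, ← pullback.condition, ← hl₁, Category.assoc, Category.assoc]
      simp [j₁, j₂]
    rw [← hl₁, ← hl₂, Category.assoc, Category.assoc, ← Category.assoc _ P.h, ← Category.assoc _ Q.h,
      ← P.restr_h hp inf_le_left, ← Q.restr_h hp inf_le_right, ← he, Category.assoc, Category.assoc,
      Category.assoc]
    exact congrArg (fun m => l ≫ (P.restr hp inf_le_left).h ≫ m) hw)
  have hf : a ≫ P.f = b ≫ Q.f := hef.symm.trans (Category.assoc _ _ _).symm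
  let f : pushout a b ⟶ Art.spec C' := pushout.desc P.f Q.f hf
  have hc : (pushout.inl a b).opensRange ⊔ (pushout.inr a b).opensRange = ⊤ :=
    top_unique fun w _ => (Approx.pushout_range a b).ge (Set.mem_univ w)
  have hflat : Flat f := by
    have : IsZariskiLocalAtSource @AlgebraicGeometry.Flat.{u} :=
      HasRingHomProperty.instIsZariskiLocalAtSource (Q := RingHom.Flat)
    refine (IsZariskiLocalAtSource.iff_of_openCover (P := @AlgebraicGeometry.Flat)
      (Approx.cover2 (pushout.inl a b) (pushout.inr a b) hc)).2 ?_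
    rintro ⟨_ | _⟩
    · show Flat (pushout.inr a b ≫ f)
      rw [pushout.inr_desc]
      exact Q.flat
    · show Flat (pushout.inl a b ≫ f)
      rw [pushout.inl_desc]
      exact P.flat
  have hmem : ∀ {W' W'' : X.Opens} (R : PLift p ξ₀ W') (h' : W'' ≤ W')
      (z : (imOpen ξ₀ W' : Scheme.{u})), R.h z ∈ R.opn hp h' → z.1 ∈ imOpen ξ₀ W'' := fun R h' z hz =>
    SetLike.ext_iff.1 (R.preimage_opn hp h') z |>.1 hz
  have hba : ∀ z' : (P.opn hp (inf_le_left : W₁ ⊓ W₂ ≤ W₁) : Scheme.{u}), b z' ∈ Q.opn hp inf_le_right := fun z' => by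
    show (e.hom ≫ (Q.opn hp inf_le_right).ι) z' ∈ Q.opn hp inf_le_right
    rw [Scheme.Hom.comp_apply]
    exact (e.hom z').2
  have r₁ : g ⁻¹ᵁ (pushout.inl a b).opensRange = j₁.opensRange := by
    refine TopologicalSpace.Opens.ext (Set.ext fun z => ⟨fun hz => ?_, ?_⟩)
    · rw [Scheme.opensRange_homOfLE]
      show z.1 ∈ Z₁
      rcases hZ z with h1 | h2
      · exact h1
      · obtain ⟨y, hy⟩ := hz
        have e2 : g z = pushout.inr a b (Q.h ⟨z.1, h2⟩) := by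
          have := congrArg (fun m : (Z₂ : Scheme.{u}) ⟶ pushout a b => m ⟨z.1, h2⟩) hg₂
          have hj : j₂ ⟨z.1, h2⟩ = z := Subtype.ext (ξ₀.total.homOfLE_apply _ _)
          simp only [Scheme.Hom.comp_apply, hj] at this
          exact this
        obtain ⟨z', -, hz'⟩ := Approx.pushout_inl_eq_inr a b (hy.trans e2)
        have h3 := hmem Q inf_le_right ⟨z.1, h2⟩ (hz' ▸ hba z')
        exact ((hinf.le h3 : z.1 ∈ (Z₁ : Set ξ₀.total) ∩ Z₂)).1
    · rintro ⟨y, rfl⟩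
      exact ⟨P.h y, (congrArg (fun m : (Z₁ : Scheme.{u}) ⟶ pushout a b => m y) hg₁).symm⟩
  have r₂ : g ⁻¹ᵁ (pushout.inr a b).opensRange = j₂.opensRange := by
    refine TopologicalSpace.Opens.ext (Set.ext fun z => ⟨fun hz => ?_, ?_⟩)
    · rw [Scheme.opensRange_homOfLE]
      show z.1 ∈ Z₂
      rcases hZ z with h1 | h2
      · obtain ⟨y, hy⟩ := hz
        have e2 : g z = pushout.inl a b (P.h ⟨z.1, h1⟩) := by
          have := congrArg (fun m : (Z₁ : Scheme.{u}) ⟶ pushout a b => m ⟨z.1, h1⟩) hg₁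
          have hj : j₁ ⟨z.1, h1⟩ = z := Subtype.ext (ξ₀.total.homOfLE_apply _ _)
          simp only [Scheme.Hom.comp_apply, hj] at this
          exact this
        obtain ⟨z', hz', -⟩ := Approx.pushout_inl_eq_inr a b (e2.symm.trans hy.symm)
        have h3 := hmem P inf_le_left ⟨z.1, h1⟩ (hz' ▸ (show a z' ∈ P.opn hp inf_le_left from z'.2))
        exact ((hinf.le h3 : z.1 ∈ (Z₁ : Set ξ₀.total) ∩ Z₂)).2
      · exact h2
    · rintro ⟨y, rfl⟩
      exact ⟨Q.h y, (congrArg (fun m : (Z₂ : Scheme.{u}) ⟶ pushout a b => m y) hg₂).symm⟩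
  refine ⟨{ Y := pushout a b, f := f, flat := hflat, h := g, sq := ?_ }⟩
  refine Scheme.isPullback_of_openCover g _ f _ (Approx.cover2 (pushout.inl a b) (pushout.inr a b) hc) ?_
  rintro ⟨_ | _⟩
  · have hpb : IsPullback Q.h j₂ (pushout.inr a b) g := IsOpenImmersion.isPullback _ _ _ _ hg₂ r₂
    show IsPullback (pullback.snd g (pushout.inr a b)) (pullback.fst g (pushout.inr a b) ≫ _) (pushout.inr a b ≫ f) _
    rw [pushout.inr_desc]
    refine Q.sq.of_iso hpb.flip.isoPullback (Iso.refl _) (Iso.refl _) (Iso.refl _) ?_ ?_ (by simp) (by simp)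
    · simp
    · simp [Z₂, Z, j₂]
  · have hpb : IsPullback P.h j₁ (pushout.inl a b) g := IsOpenImmersion.isPullback _ _ _ _ hg₁ r₁
    show IsPullback (pullback.snd g (pushout.inl a b)) (pullback.fst g (pushout.inl a b) ≫ _) (pushout.inl a b ≫ f) _
    rw [pushout.inl_desc]
    refine P.sq.of_iso hpb.flip.isoPullback (Iso.refl _) (Iso.refl _) (Iso.refl _) ?_ ?_ (by simp) (by simp)
    · simp
    · simp [Z₁, Z, j₁]

end Groth.Agent.DefCurve29
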